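import Groth.Agent.L27.Acyclic0.ShConn
import Groth.Agent.L27.Acyclic0.BaseChange
import Groth.Agent.L27.StalkBC.Criterion
import Groth.Agent.L27.LimBC.LAFibre
import Mathlib.AlgebraicGeometry.Noetherian
import Groth.Agent.L05.Henselization.StrictUniq
import Groth.Agent.L20.GeomFibre

/-!
# Closures of the two halves of an open set in a flat family with geometrically reduced fibres
-/

universe u

open CategoryTheory CategoryTheory.Limits AlgebraicGeometry IsLocalRing TopologicalSpace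

set_option autoImplicit false
set_option backward.isDefEq.respectTransparency.types false
set_option linter.style.haveILetI false
set_option linter.unusedSectionVars false
set_option maxSynthPendingDepth 3

noncomputable section

namespace Groth.L23.SepDepth

/-- In a Noetherian sober space a locally closed set without generalisations of a point avoids a
neighbourhood of it. -/
theorem exists_specializes_of_mem_closure_inter {T : Type*} [TopologicalSpace T] [NoetherianSpace T]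
    [QuasiSober T] (O C : Set T) (hO : IsOpen O) (hC : IsClosed C) {x : T} (hx : x ∈ closure (O ∩ C)) :
    ∃ q ∈ O ∩ C, q ⤳ x := by
  obtain ⟨S, hSf, hSc, hSi, hSU⟩ := NoetherianSpace.exists_finite_set_isClosed_irreducible
    (isClosed_closure (s := O ∩ C))
  let S' : Set (Set T) := {Z | Z ∈ S ∧ ((O ∩ C) ∩ Z).Nonempty}
  have hsub : O ∩ C ⊆ ⋃₀ S' := fun y hy => by
    obtain ⟨Z, hZ, hyZ⟩ := Set.mem_sUnion.mp (hSU ▸ subset_closure hy)
    exact ⟨Z, ⟨hZ, y, hy, hyZ⟩, hyZ⟩
  have hcl : IsClosed (⋃₀ S') :=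
    Set.sUnion_eq_biUnion ▸ (hSf.subset fun Z (hZ : Z ∈ S') => hZ.1).isClosed_biUnion
      (fun Z (hZ : Z ∈ S') => hSc Z hZ.1)
  obtain ⟨Z, ⟨hZS, y, hy, hyZ⟩, hxZ⟩ := Set.mem_sUnion.mp (hcl.closure_subset (closure_mono hsub hx))
  obtain ⟨q, hq⟩ := QuasiSober.sober (hSi Z hZS) (hSc Z hZS)
  refine ⟨q, ⟨(hq.specializes hyZ).mem_open hO hy.1, ?_⟩, hq.specializes hxZ⟩
  have hqc : q ∈ closure (O ∩ C) := hSU ▸ Set.mem_sUnion.2 ⟨Z, hZS, hq.mem⟩
  exact hC.closure_subset (closure_mono Set.inter_subset_right hqc)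

/-- On a locally Noetherian scheme a locally closed set containing no generalisation of `y` is disjoint
from a neighbourhood of `y`. -/
theorem exists_nhd_disjoint {X : Scheme.{u}} [IsLocallyNoetherian X] (O : X.Opens) (C : Set X)
    (hC : IsClosed C) (y : X) (h : ∀ t ∈ O, t ∈ C → ¬ t ⤳ y) :
    ∃ N : X.Opens, y ∈ N ∧ ∀ t ∈ N, t ∈ O → t ∉ C := by
  obtain ⟨W, hW, hyW, -⟩ := exists_isAffineOpen_mem_and_subset (x := y) (U := (⊤ : X.Opens)) trivial
  haveI : IsAffine W.toScheme := hW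
  haveI : IsLocallyNoetherian W.toScheme := isLocallyNoetherian_of_isOpenImmersion W.ι
  haveI : IsNoetherian W.toScheme := { }
  have hy : y ∉ closure ((W : Set X) ∩ ((O : Set X) ∩ C)) := by
    intro hmem
    have h' : (⟨y, hyW⟩ : W.toScheme) ∈ closure ((W.ι ⁻¹' (O : Set X)) ∩ (W.ι ⁻¹' C)) := by
      rw [← Set.preimage_inter, ← W.ι.isOpenEmbedding.isOpenMap.preimage_closure_eq_closure_preimage W.ι.continuous]
      exact closure_mono Set.inter_subset_right hmem
    obtain ⟨q, ⟨hqO, hqC⟩, hq⟩ :=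
      exists_specializes_of_mem_closure_inter _ _ (O.2.preimage W.ι.continuous) (hC.preimage W.ι.continuous) h'
    exact h (W.ι q) hqO hqC (hq.map W.ι.continuous)
  refine ⟨W ⊓ ⟨(closure ((W : Set X) ∩ ((O : Set X) ∩ C)))ᶜ, isClosed_closure.isOpen_compl⟩, ⟨hyW, hy⟩, ?_⟩
  rintro t ⟨htW, ht⟩ htO htC
  exact ht (subset_closure ⟨htW, htO, htC⟩)

/-- Every point has a generalisation in its fibre lying in `W`. -/
def Tot {X S : Scheme.{u}} (f : X ⟶ S) (W : Set X) : Prop := ∀ z, ∃ w ∈ W, f w = f z ∧ w ⤳ z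

/-- The fibre has a single maximal generalisation of `z`. -/
def Uni {X S : Scheme.{u}} (f : X ⟶ S) (z : X) : Prop :=
  ∃ η, f η = f z ∧ η ⤳ z ∧ ∀ t, f t = f z → t ⤳ z → η ⤳ t

variable {X S : Scheme.{u}} (f : X ⟶ S)

/-- A point of the closure of an open set is a specialization of a point of it. -/
theorem exists_specializes_inter [IsLocallyNoetherian X] (O : X.Opens) {Z : Set X} (hZ : IsClosed Z) {z : X}
    (hz : z ∈ closure ((O : Set X) ∩ Z)) : ∃ c ∈ O, c ∈ Z ∧ c ⤳ z := by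
  by_contra hcon
  push Not at hcon
  obtain ⟨N, hzN, hN⟩ := exists_nhd_disjoint O Z hZ z hcon
  obtain ⟨t, htN, htO, htZ⟩ := mem_closure_iff.1 hz N N.2 hzN
  exact hN t htN htO htZ

/-- A closed set with empty interior contains no maximal point. -/
theorem notMem_of_isNowhereDense [IsLocallyNoetherian S] {A : Set S} (hA : IsNowhereDense A) {η : S}
    (hη : ∀ t, t ⤳ η → t = η) : η ∉ closure A := by
  intro hmem
  obtain ⟨N, hηN, hN⟩ := exists_nhd_disjoint ⟨(closure A)ᶜ, isClosed_closure.isOpen_compl⟩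
    Set.univ isClosed_univ η fun t ht _ htη => ht (hη t htη ▸ hmem)
  have : η ∈ interior (closure A) :=
    ⟨N, ⟨N.2, fun t ht => not_not.1 fun h => hN t ht h (Set.mem_univ t)⟩, hηN⟩
  rw [hA] at this
  exact this

section

variable [IsLocallyNoetherian X] [IsLocallyNoetherian S] [Flat f]

section Abstract

variable {T R : Scheme.{u}} (bX : T ⟶ X) (bS : R ⟶ S) (sψ : T ⟶ R) [Flat bX] [Flat bS] [Flat sψ]
  (hcomm : ∀ t, f (bX t) = bS (sψ t)) (C D : X.Opens) (hCD : Disjoint (C : Set X) D)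

/-- The points with a generalisation in `O` inside their fibre. -/
def gens (O : X.Opens) : Set X := {z | ∃ c ∈ O, f c = f z ∧ c ⤳ z}

include hcomm hCD in
/-- The fibre over a maximal point lies over only one of the pieces. -/
theorem one_sort (hTot : Tot f ((C : Set X) ∪ D))
    (hab : IsNowhereDense (f '' ((C : Set X) ∪ D)ᶜ) ∨ ∀ z ∉ ((C : Set X) ∪ D), Uni f z)
    (r : R) (hr : ∀ r', r' ⤳ r → r' = r) (hconn : _root_.IsPreconnected (sψ ⁻¹' {r})) :
    (∀ t, sψ t = r → bX t ∉ (D : Set X)) ∨ (∀ t, sψ t = r → bX t ∉ (C : Set X)) := by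
  let s := bS r
  have hsmax : ∀ s', s' ⤳ s → s' = s := fun s' hs' => by
    obtain ⟨r', hr', hrs⟩ := Flat.generalizingMap bS hs'
    rw [← hrs, hr r' hr']
  have hexcl : ∀ z, f z = s → z ∈ gens f C → z ∈ gens f D → False := by
    rintro z hz ⟨c, hc, hfc, hcz⟩ ⟨d, hd, hfd, hdz⟩
    by_cases hzW : z ∈ (C : Set X) ∪ D
    · rcases hzW with hz | hz
      · exact Set.disjoint_left.1 hCD (hdz.mem_open C.2 hz) hd
      · exact Set.disjoint_left.1 hCD hc (hcz.mem_open D.2 hz)
    · rcases hab with hab | hab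
      · exact notMem_of_isNowhereDense hab hsmax (subset_closure ⟨z, hzW, hz⟩)
      · obtain ⟨η, -, -, hη⟩ := hab z hzW
        exact Set.disjoint_left.1 hCD ((hη c hfc hcz).mem_open C.2 hc) ((hη d hfd hdz).mem_open D.2 hd)
  have hst : ∀ t, sψ t = r → f (bX t) = s := fun t ht => (hcomm t).trans (congrArg bS.base ht)
  have hclos : ∀ (O : X.Opens) (t : T), sψ t = r →
      bX t ∈ closure ((O : Set X) ∩ f ⁻¹' closure {s}) → bX t ∈ gens f O := by
    intro O t ht hmem
    obtain ⟨c, hcO, hcs, hct⟩ := exists_specializes_inter O (isClosed_closure.preimage f.continuous) hmem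
    have h1 : s ⤳ f c := specializes_iff_mem_closure.2 hcs
    have h2 : f c ⤳ f (bX t) := hct.map f.continuous
    rw [hst t ht] at h2
    exact ⟨c, hcO, (h2.antisymm h1).eq.trans (hst t ht).symm, hct⟩
  have hP : ∀ (O : X.Opens) (t : T), sψ t = r → bX t ∈ gens f O →
      bX t ∈ closure ((O : Set X) ∩ f ⁻¹' closure {s}) := by
    rintro O t ht ⟨c, hc, hfc, hct⟩
    refine hct.mem_closed isClosed_closure (subset_closure ⟨hc, subset_closure ?_⟩)
    exact (hfc.trans (hst t ht)).symm ▸ Set.mem_singleton s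
  by_contra hcon
  push Not at hcon
  obtain ⟨⟨t₁, ht₁, hD₁⟩, t₂, ht₂, hC₂⟩ := hcon
  obtain ⟨t, htr, htC, htD⟩ := isPreconnected_closed_iff.1 hconn
    (bX ⁻¹' closure ((C : Set X) ∩ f ⁻¹' closure {s})) (bX ⁻¹' closure ((D : Set X) ∩ f ⁻¹' closure {s}))
    (isClosed_closure.preimage bX.continuous) (isClosed_closure.preimage bX.continuous)
    (fun t ht => by
      obtain ⟨w, hw | hw, hfw, hwz⟩ := hTot (bX t)
      · exact Or.inl (hP C t ht ⟨w, hw, hfw, hwz⟩)
      · exact Or.inr (hP D t ht ⟨w, hw, hfw, hwz⟩))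
    ⟨t₂, ht₂, hP C t₂ ht₂ ⟨_, hC₂, rfl, specializes_rfl⟩⟩
    ⟨t₁, ht₁, hP D t₁ ht₁ ⟨_, hD₁, rfl, specializes_rfl⟩⟩
  exact hexcl _ (hst t htr) (hclos C t htr htC) (hclos D t htr htD)

include hcomm hCD in
/-- Abstract form of the disjointness of the closures. -/
theorem false_of_split (hTot : Tot f ((C : Set X) ∪ D))
    (hab : IsNowhereDense (f '' ((C : Set X) ∪ D)ᶜ) ∨ ∀ z ∉ ((C : Set X) ∪ D), Uni f z)
    (hconn : ∀ r : R, _root_.IsPreconnected (sψ ⁻¹' {r}))
    (hminpt : ∀ r : R, ∃ r₀, r₀ ⤳ r ∧ ∀ r', r' ⤳ r₀ → r' = r₀)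
    (tw tc td : T) (hw : bX tw ∈ (C : Set X) ∪ D) (hc : bX tc ∈ C) (hd : bX td ∈ D)
    (hall : ∀ r, r ⤳ sψ tw) : False := by
  have hgen : ∀ (O : X.Opens) (t : T) (r : R),
      r ⤳ sψ t → bX t ∈ O → ∃ t', sψ t' = r ∧ bX t' ∈ O := fun O t r hr ht => by
    obtain ⟨t', ht', hrt⟩ := Flat.generalizingMap sψ hr
    exact ⟨t', hrt, (ht'.map bX.continuous).mem_open O.2 ht⟩
  rcases hw with hwC | hwD
  · obtain ⟨r₀, hr₀, hr₀min⟩ := hminpt (sψ td)
    obtain ⟨t₁, ht₁, ht₁D⟩ := hgen D td r₀ hr₀ hd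
    obtain ⟨t₂, ht₂, ht₂C⟩ := hgen C tw r₀ (hall r₀) hwC
    rcases one_sort f bX bS sψ hcomm C D hCD hTot hab r₀ hr₀min (hconn r₀) with h | h
    · exact h t₁ ht₁ ht₁D
    · exact h t₂ ht₂ ht₂C
  · obtain ⟨r₀, hr₀, hr₀min⟩ := hminpt (sψ tc)
    obtain ⟨t₁, ht₁, ht₁C⟩ := hgen C tc r₀ hr₀ hc
    obtain ⟨t₂, ht₂, ht₂D⟩ := hgen D tw r₀ (hall r₀) hwD
    rcases one_sort f bX bS sψ hcomm C D hCD hTot hab r₀ hr₀min (hconn r₀) with h | h
    · exact h t₂ ht₂ ht₂D
    · exact h t₁ ht₁ ht₁C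

end Abstract

/-- A point of a local scheme over the base point of a strict henselization is closed. -/
theorem eq_closedPoint_of_specOf (s : S) (RS : Type u) [CommRing RS] [IsLocalRing RS]
    [Algebra (S.presheaf.stalk s) RS] [IsLocalHom (algebraMap (S.presheaf.stalk s) RS)]
    [Hensel.IsStrictHenselization (S.presheaf.stalk s) RS] (r : Spec (CommRingCat.of RS))
    (hr : Hens2.specOf S s RS r = s) : r = closedPoint RS := by
  have h3 : Hens2.specOf S s RS (closedPoint RS) = s := L27.LimBC.specOf_closedPoint s RS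
  let σ := Spec.map (CommRingCat.ofHom (algebraMap (S.presheaf.stalk s) RS))
  have h4 : σ r = σ (closedPoint RS) := (S.fromSpecStalk s).isEmbedding.injective
    (((Scheme.Hom.comp_apply σ (S.fromSpecStalk s) r).symm.trans (hr.trans h3.symm)).trans
      (Scheme.Hom.comp_apply _ _ _))
  have h2 : Ideal.comap (algebraMap (S.presheaf.stalk s) RS) r.asIdeal =
      maximalIdeal (S.presheaf.stalk s) :=
    congrArg PrimeSpectrum.asIdeal (h4.trans (IsLocalRing.comap_closedPoint (algebraMap (S.presheaf.stalk s) RS)))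
  refine PrimeSpectrum.ext ((maximalIdeal.isMaximal RS).eq_of_le r.2.ne_top ?_).symm
  rw [← L05.Henselization.map_maximalIdeal_of_isStrictHenselization (S.presheaf.stalk s) RS,
    Ideal.map_le_iff_le_comap, h2]

theorem exists_minimal_point (RS : Type u) [CommRing RS] (r : Spec (CommRingCat.of RS)) :
    ∃ r₀, r₀ ⤳ r ∧ ∀ r' : Spec (CommRingCat.of RS), r' ⤳ r₀ → r' = r₀ := by
  obtain ⟨p, hp, hpr⟩ := Ideal.exists_minimalPrimes_le (J := r.asIdeal) (I := (⊥ : Ideal RS)) bot_le
  refine ⟨⟨p, hp.1.1⟩, (PrimeSpectrum.le_iff_specializes _ _).1 hpr, fun r' h => PrimeSpectrum.ext ?_⟩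
  exact le_antisymm ((PrimeSpectrum.le_iff_specializes _ _).2 h)
    (hp.2 ⟨r'.2, bot_le⟩ ((PrimeSpectrum.le_iff_specializes _ _).2 h))

theorem range_geomPoint {R : Scheme.{u}} (r : R) (K : Type u) [Field K] (φ : R.residueField r ⟶ CommRingCat.of K) :
    Set.range (Spec.map φ ≫ R.fromSpecResidueField r).base = {r} := by
  haveI : Nonempty ↥(Spec (CommRingCat.of K)) := ⟨IsLocalRing.closedPoint K⟩
  refine Set.range_eq_iff (Spec.map φ ≫ R.fromSpecResidueField r).base {r} |>.2
    ⟨fun a => R.fromSpecResidueField_apply r _, fun x hx => ⟨IsLocalRing.closedPoint K, ?_⟩⟩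
  rw [Set.mem_singleton_iff.1 hx]
  exact R.fromSpecResidueField_apply r _

theorem exists_geomPoint_range (R : Scheme.{u}) (r : R) :
    ∃ (K : Type u) (_ : Field K) (_ : IsAlgClosed K) (η : Spec (CommRingCat.of K) ⟶ R), Set.range η.base = {r} := by
  obtain ⟨k, hk, hke⟩ : ∃ (k : Type u) (_ : Field k), Nonempty (R.residueField r ⟶ CommRingCat.of k) :=
    ⟨R.residueField r, inferInstance, ⟨𝟙 _⟩⟩
  obtain ⟨φ₀⟩ := hke
  exact ⟨AlgebraicClosure k, inferInstance, inferInstance, _,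
    range_geomPoint r (AlgebraicClosure k) (φ₀ ≫ CommRingCat.ofHom (algebraMap k (AlgebraicClosure k)))⟩

/-- Connectedness of a fibre from connectedness of a geometric fibre. -/
theorem isPreconnected_fibre_of_geom {T R : Scheme.{u}} (g : T ⟶ R) (r : R)
    (h : ∀ (Ω : Type u) [Field Ω] [IsAlgClosed Ω] (η : Spec (CommRingCat.of Ω) ⟶ R), ConnectedSpace ↥(pullback g η)) :
    _root_.IsPreconnected (g ⁻¹' {r}) := by
  obtain ⟨K, hK, hKc, η, hrange⟩ := exists_geomPoint_range R r
  haveI := h K η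
  rw [← hrange, ← Scheme.Pullback.range_fst]
  exact isPreconnected_range (pullback.fst g η).continuous

/-- The closures of two complementary open pieces of `W` are disjoint. -/
theorem closure_disjoint
    (hsep : ∀ (K : Type u) [Field K] (k : Spec (CommRingCat.of K) ⟶ S), AlgebraicGeometry.IsReduced (pullback f k))
    (C D : X.Opens) (hCD : Disjoint (C : Set X) D) (hTot : Tot f ((C : Set X) ∪ D))
    (hab : IsNowhereDense (f '' ((C : Set X) ∪ D)ᶜ) ∨ ∀ z ∉ ((C : Set X) ∪ D), Uni f z) :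
    Disjoint (closure (C : Set X)) (closure D) := by
  rw [Set.disjoint_left]
  intro y hyC hyD
  obtain ⟨RX, _, _, _, _, hRX⟩ := L05.Henselization.exists_isStrictHenselization (X.presheaf.stalk y)
  obtain ⟨RS, _, _, _, _, hRS⟩ := L05.Henselization.exists_isStrictHenselization (S.presheaf.stalk (f.base y))
  haveI := hRX
  haveI := hRS
  haveI : HenselianLocalRing RS := hRS.henselian
  haveI : IsSepClosed (ResidueField RS) := hRS.isSepClosure.sep_closed
  haveI : HenselianLocalRing RX := hRX.henselian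
  haveI : IsSepClosed (ResidueField RX) := hRX.isSepClosure.sep_closed
  obtain ⟨ψ, _, hψ⟩ := L27.StalkBC.exists_strictMap f y RS RX
  let bX := Hens2.specOf X y RX
  let bS := Hens2.specOf S (f.base y) RS
  let sψ := Spec.map (CommRingCat.ofHom ψ)
  haveI : WeaklyEtale bX := L27.Acyclic0.weaklyEtale_fromStrict y RX
  haveI : WeaklyEtale bS := L27.Acyclic0.weaklyEtale_fromStrict (f.base y) RS
  have hsq : sψ ≫ bS = bX ≫ f := L27.StalkBC.specOf_comp f y RS RX ψ hψ
  let e : Spec (CommRingCat.of RX) ⟶ pullback f bS := pullback.lift bX sψ hsq.symm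
  haveI : WeaklyEtale (e ≫ pullback.fst f bS) := by rw [pullback.lift_fst]; infer_instance
  haveI : WeaklyEtale e := WeaklyEtale.of_comp e (pullback.fst f bS)
  haveI : Flat (pullback.snd f bS) := MorphismProperty.pullback_snd _ _ ‹Flat f›
  haveI : Flat sψ := by
    rw [← show e ≫ pullback.snd f bS = sψ from pullback.lift_snd _ _ _]; infer_instance
  haveI : Flat bX := inferInstance
  haveI : Flat bS := inferInstance
  have hcomm : ∀ t, f (bX t) = bS (sψ t) := fun t => by
    rw [← Scheme.Hom.comp_apply, ← hsq, Scheme.Hom.comp_apply]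
  have hclX : bX (closedPoint RX) = y := L27.LimBC.specOf_closedPoint y RX
  -- lifting generalisations of `y`
  have hlift : ∀ w : X, w ⤳ y → ∃ t, bX t = w := fun w hw => by
    obtain ⟨t, -, ht⟩ := Flat.generalizingMap bX (hclX.symm ▸ hw)
    exact ⟨t, ht⟩
  obtain ⟨c, hc, -, hcy⟩ := exists_specializes_inter C isClosed_univ (by rwa [Set.inter_univ] : y ∈ closure _)
  obtain ⟨d, hd, -, hdy⟩ := exists_specializes_inter D isClosed_univ (by rwa [Set.inter_univ] : y ∈ closure _)
  obtain ⟨tc, htc⟩ := hlift c hcy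
  obtain ⟨td, htd⟩ := hlift d hdy
  obtain ⟨w, hw, hfw, hwy⟩ := hTot y
  obtain ⟨tw, htw⟩ := hlift w hwy
  refine false_of_split f bX bS sψ hcomm C D hCD hTot hab (fun r => isPreconnected_fibre_of_geom sψ r fun Ω _ _ η =>
    L27.Acyclic0.shConnected_of_flat_geomReduced f hsep (Or.inl ⟨inferInstance, inferInstance⟩) y RS RX ψ hψ Ω η)
    (exists_minimal_point RS) tw tc td (htw.symm ▸ hw) (htc.symm ▸ hc) (htd.symm ▸ hd) ?_
  have h1 : bS (sψ tw) = f.base y := by rw [← hcomm, htw, hfw]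
  intro r
  rw [eq_closedPoint_of_specOf (f.base y) RS (sψ tw) h1]
  exact IsLocalRing.specializes_closedPoint r

end

end Groth.L23.SepDepth
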