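import Groth.Agent.L23.SepDepth.Core
import Groth.Agent.L23.GeomRedProd.Fact
import Groth.Agent.S9782
import Groth.Agent.S5181
import Groth.Agent.L06.FibreModel
import Groth.Agent.L27.HomotopySeq.Full
import Groth.Prelude.Def_CInt
import Groth.Prelude.Def_CAlg2

/-!
# Etale depth at least two for flat morphisms with geometrically reduced fibres
-/

universe u

open CategoryTheory CategoryTheory.Limits AlgebraicGeometry IsLocalRing TopologicalSpace

set_option autoImplicit false
set_option backward.isDefEq.respectTransparency.types false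
set_option linter.style.haveILetI false
set_option linter.unusedSectionVars false
set_option maxSynthPendingDepth 3

noncomputable section

namespace Groth.L23.SepDepth

variable {X S : Scheme.{u}} (f : X ⟶ S)

/-- The local ring of a fibre at a maximal point has dimension zero. -/
theorem dim_fiberStalk_le_zero {s : S} (η : f.fiber s) (hη : ∀ t, t ⤳ η → t = η) (w : X)
    (hw : f.fiberι s η = w) : ringKrullDim ↑(CInt.fiberStalk f w) ≤ 0 := by
  have key : ∀ (r : S) (_ : f w = r) (a : f.fiber r), f.fiberι r a = w → (∀ t, t ⤳ a → t = a) →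
      ringKrullDim ↑(CInt.fiberStalk f w) ≤ 0 := by
    rintro r rfl a ha hmax
    obtain rfl : a = f.asFiber w := (f.fiberι _).isEmbedding.injective (ha.trans (f.fiberι_asFiber w).symm)
    have hF : ∀ (Z : Scheme.{u}) (c : Z), (∀ t, t ⤳ c → t = c) → ringKrullDim ↑(Z.presheaf.stalk c) ≤ 0 := by
      intro Z c hc
      haveI : Subsingleton (PrimeSpectrum ↑(Z.presheaf.stalk c)) := ⟨fun p q => by
        have hp : ∀ p : Spec (Z.presheaf.stalk c), Z.fromSpecStalk c p = c := fun p =>
          hc _ ((Z.range_fromSpecStalk (x := c)).le ⟨p, rfl⟩)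
        exact (Z.fromSpecStalk c).isEmbedding.injective ((hp p).trans (hp q).symm)⟩
      exact Order.krullDim_nonpos_of_subsingleton
    exact hF _ _ hmax
  exact key s (hw ▸ (f.range_fiberι s).le ⟨η, rfl⟩) η hw hη

/-- A point of a fibre has a maximal generalisation in the fibre. -/
theorem exists_maximal (F : Scheme.{u}) (c : F) : ∃ η : F, η ⤳ c ∧ ∀ t, t ⤳ η → t = η := by
  obtain ⟨η, hη⟩ := QuasiSober.sober (isIrreducible_irreducibleComponent (x := c)) isClosed_irreducibleComponent
  refine ⟨η, hη.specializes mem_irreducibleComponent, fun t ht => ?_⟩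
  have hsub : irreducibleComponent c ⊆ closure ({t} : Set F) := fun z hz =>
    specializes_iff_mem_closure.1 (ht.trans (hη.specializes hz))
  have heq := eq_irreducibleComponent (x := c) isIrreducible_singleton.closure.isPreirreducible hsub
  exact (ht.antisymm (hη.specializes (heq ▸ subset_closure rfl))).eq

/-- Fibrewise density of `W`. -/
theorem tot_of_dim (W : Set X) (hY : ∀ z ∉ W, (1 : WithBot ℕ∞) ≤ ringKrullDim ↑(CInt.fiberStalk f z)) :
    Tot f W := by
  intro z
  obtain ⟨η, hηc, hη⟩ := exists_maximal (f.fiber (f z)) (f.asFiber z)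
  refine ⟨f.fiberι (f z) η, ?_, (f.range_fiberι (f z)).le ⟨η, rfl⟩, ?_⟩
  · by_contra h
    have h1 := (hY _ h).trans (dim_fiberStalk_le_zero f η hη _ rfl)
    exact absurd h1 (by norm_num)
  · simpa only [f.fiberι_asFiber] using hηc.map (f.fiberι (f z)).continuous

variable {Z : Scheme.{u}} (h : Z ⟶ X) [Etale h]

theorem tot_comp {W : Set X} (hW : Tot f W) : Tot (h ≫ f) (h ⁻¹' W) := by
  intro z
  obtain ⟨w, hw, hfw, hwz⟩ := hW (h z)
  obtain ⟨t, htz, htw⟩ := Flat.generalizingMap h hwz
  refine ⟨t, show h t ∈ W from htw.symm ▸ hw, ?_, htz⟩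
  rw [Scheme.Hom.comp_apply, Scheme.Hom.comp_apply, htw, hfw]

/-- Geometrically unibranch fibres give a single maximal generalisation on etale schemes. -/
theorem uni_comp (z : Z) (hu : CAlg2.IsGeomUnibranch ↑(CInt.fiberStalk f (h z))) : Uni (h ≫ f) z := by
  let s : S := f (h z)
  let F := f.fiber s
  let F' := (h ≫ f).fiber s
  let m : F' ⟶ F := pullback.lift ((h ≫ f).fiberι s ≫ h) ((h ≫ f).fiberToSpecResidueField s)
    ((Category.assoc _ _ _).trans pullback.condition)
  have hm : m ≫ f.fiberι s = (h ≫ f).fiberι s ≫ h := pullback.lift_fst _ _ _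
  have sq : IsPullback ((h ≫ f).fiberι s) m h (f.fiberι s) := by
    refine IsPullback.of_bot (v₂₁ := f.fiberToSpecResidueField s) (v₂₂ := f)
      (h₃₁ := S.fromSpecResidueField s) ?_ hm.symm (IsPullback.of_hasPullback f _)
    rw [show m ≫ f.fiberToSpecResidueField s = (h ≫ f).fiberToSpecResidueField s from pullback.lift_snd _ _ _]
    exact IsPullback.of_hasPullback _ _
  haveI : Etale m := MorphismProperty.of_isPullback (P := @Etale) sq ‹_›
  have hz : (h ≫ f) z = s := Scheme.Hom.comp_apply _ _ _
  obtain ⟨c, hc⟩ : z ∈ Set.range ((h ≫ f).fiberι s) := by rw [(h ≫ f).range_fiberι]; exact hz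
  have hmc : m c = f.asFiber (h z) := by
    refine (f.fiberι s).isEmbedding.injective ?_
    rw [← Scheme.Hom.comp_apply, hm, Scheme.Hom.comp_apply, hc]
    exact (f.fiberι_asFiber (h z)).symm
  have hone := (Groth.Agent.S9782.result F (f.asFiber (h z))).1 hu F' m c inferInstance hmc
  obtain ⟨Z₁, hZ₁⟩ := Set.encard_eq_one.1 hone
  obtain ⟨η, hηc, hη⟩ := exists_maximal F' c
  refine ⟨(h ≫ f).fiberι s η, ?_, hc ▸ hηc.map ((h ≫ f).fiberι s).continuous, fun t hft htz => ?_⟩
  · exact ((h ≫ f).range_fiberι s).le ⟨η, rfl⟩ |>.trans hz.symm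
  · obtain ⟨t', rfl⟩ : t ∈ Set.range ((h ≫ f).fiberι s) := by
      rw [(h ≫ f).range_fiberι]; exact hft.trans hz
    refine Specializes.map ?_ ((h ≫ f).fiberι s).continuous
    rw [← hc, ((h ≫ f).fiberι s).isEmbedding.isInducing.specializes_iff] at htz
    have hmem : ∀ a : F', a ⤳ c → irreducibleComponent a = Z₁ := fun a ha => by
      have : irreducibleComponent a ∈ {Z : Set F' | Z ∈ irreducibleComponents F' ∧ c ∈ Z} :=
        ⟨irreducibleComponent_mem_irreducibleComponents a, ha.mem_closed isClosed_irreducibleComponent mem_irreducibleComponent⟩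
      rw [hZ₁] at this
      exact this
    have he : irreducibleComponent η = irreducibleComponent t' := (hmem η hηc).trans (hmem t' htz).symm
    obtain ⟨g, hg⟩ := QuasiSober.sober (isIrreducible_irreducibleComponent (x := η)) isClosed_irreducibleComponent
    rw [← hη g (hg.specializes mem_irreducibleComponent)]
    exact hg.specializes (he ▸ mem_irreducibleComponent)

variable {U : Scheme.{u}}

/-- The two hypotheses of the depth statement, in topological form. -/
theorem clopens [IsLocallyNoetherian X] [IsLocallyNoetherian S] [Flat f] [GeometricallyReduced f] (W : X.Opens)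
    (hT : Tot f (W : Set X))
    (hab : IsNowhereDense (f '' (W : Set X)ᶜ) ∨ ∀ y ∉ W, CAlg2.IsGeomUnibranch ↑(CInt.fiberStalk f y))
    (C D : Z.Opens) (hCD : Disjoint (C : Set Z) D) (hW : (C : Set Z) ∪ D = h ⁻¹' W) :
    Disjoint (closure (C : Set Z)) (closure D) ∧ closure (C : Set Z) ∪ closure D = Set.univ := by
  haveI := Groth.L23.GeomRedProd.geometricallyReduced_etale_comp h f
  haveI : IsLocallyNoetherian Z := LocallyOfFiniteType.isLocallyNoetherian h
  have hT' : Tot (h ≫ f) ((C : Set Z) ∪ D) := hW ▸ tot_comp f h hT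
  refine ⟨closure_disjoint (h ≫ f) (fun K _ k => GeometricallyReduced.geometrically_isReduced (f := h ≫ f) _ _ _
    (IsPullback.of_hasPullback (h ≫ f) k)) C D hCD hT' ?_, ?_⟩
  · rcases hab with hab | hab
    · refine Or.inl (hab.mono ?_)
      rintro _ ⟨z, hz, rfl⟩
      exact ⟨h z, fun hm => hz (hW.symm ▸ hm), (Scheme.Hom.comp_apply _ _ _).symm⟩
    · exact Or.inr fun z hz => uni_comp f h z (hab _ fun hm => hz (hW.symm ▸ hm))
  · refine Set.eq_univ_of_forall fun z => ?_
    obtain ⟨w, hw, -, hwz⟩ := hT' z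
    rcases hw with hw | hw
    · exact Or.inl (hwz.mem_closed isClosed_closure (subset_closure hw))
    · exact Or.inr (hwz.mem_closed isClosed_closure (subset_closure hw))

/-- Full faithfulness of restriction to the open part on every etale scheme. -/
theorem full_faithful [IsLocallyNoetherian X] [IsLocallyNoetherian S] [Flat f] [GeometricallyReduced f]
    (j : U ⟶ X) [IsOpenImmersion j]
    (hY : ∀ y : X, y ∉ Set.range j.base → (1 : WithBot ℕ∞) ≤ ringKrullDim ↑(CInt.fiberStalk f y))
    (hab : IsNowhereDense (f.base '' (Set.range j.base)ᶜ) ∨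
      ∀ y : X, y ∉ Set.range j.base → CAlg2.IsGeomUnibranch ↑(CInt.fiberStalk f y))
    (X' : Scheme.{u}) (g : X' ⟶ X) [Etale g] :
    (FEt.restrict (pullback.snd j g)).Full ∧ (FEt.restrict (pullback.snd j g)).Faithful := by
  have hT : Tot f (Set.range j.base) := tot_of_dim f _ hY
  have hr : Set.range (pullback.snd j g).base = g ⁻¹' Set.range j.base := Scheme.Pullback.range_snd j g
  have hmeet : Groth.L27.NormalSepClosed.MeetsClopens (pullback.snd j g) := fun Z z _ _ O hO hne => by
    obtain ⟨o, ho⟩ := hne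
    obtain ⟨w, hw, -, hwo⟩ := tot_comp f (z ≫ g) hT o
    refine ⟨w, hwo.mem_open hO.2 ho, ?_⟩
    rw [hr]
    show g (z w) ∈ Set.range j.base
    rw [← Scheme.Hom.comp_apply]
    exact hw
  refine ⟨Groth.L27.HomotopySeq.full_restrict_of_clopens _ hmeet fun Z z _ _ C₀ hC₀ => ?_,
    Groth.L27.HomotopySeq.faithful_restrict_of_meets _ hmeet⟩
  let p := pullback.fst z (pullback.snd j g)
  haveI : IsOpenImmersion p := inferInstanceAs (IsOpenImmersion (pullback.fst z (pullback.snd j g)))
  have hrp : Set.range p = (z ≫ g) ⁻¹' Set.range j.base := by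
    rw [Scheme.Pullback.range_fst, hr]
    ext w
    simp only [Set.mem_preimage, Scheme.Hom.comp_apply]
  let C : Z.Opens := ⟨p '' C₀, p.isOpenEmbedding.isOpenMap _ hC₀.2⟩
  let D : Z.Opens := ⟨p '' C₀ᶜ, p.isOpenEmbedding.isOpenMap _ hC₀.1.isOpen_compl⟩
  have hCD : Disjoint (C : Set Z) D :=
    (Set.disjoint_image_iff p.isOpenEmbedding.injective).2 disjoint_compl_right
  obtain ⟨hdis, huniv⟩ := clopens f (z ≫ g) ⟨Set.range j.base, j.isOpenEmbedding.isOpen_range⟩ hT hab C D hCD
    (show p '' C₀ ∪ p '' C₀ᶜ = _ by rw [← Set.image_union, Set.union_compl_self, Set.image_univ, hrp]; rfl)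
  have hcompl : closure (C : Set Z) = (closure (D : Set Z))ᶜ :=
    Set.Subset.antisymm hdis.subset_compl_right fun a ha => (huniv.ge (Set.mem_univ a)).resolve_right ha
  refine ⟨closure (C : Set Z), ⟨isClosed_closure, hcompl ▸ isClosed_closure.isOpen_compl⟩, ?_⟩
  refine Set.Subset.antisymm (fun a ha => ?_) fun a ha => subset_closure ⟨a, ha, rfl⟩
  by_contra hna
  exact Set.disjoint_left.1 hdis ha (subset_closure ⟨a, hna, rfl⟩)

end Groth.L23.SepDepth
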